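import Mathlib
import Cfsg.Agent.Lib.Helper4.TIQ.Defs

/-!
# TIQ (S4151): package [AB]

Coprime action with `[K, A] = K`: the fixed points lie in the derived group (norm map into the
abelianization).
-/

set_option autoImplicit false

namespace Cfsg.Agent.Lib.Helper93.TIQ

open Cfsg.Agent.Lib.Helper4.TIQ
open scoped commutatorElement

universe u

/-- conjugation by an element of the normalizer, restricted to `K` -/
def conjK {G : Type u} [Group G] (K : Subgroup G) (a : G)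
    (ha : a ∈ Subgroup.normalizer (K : Set G)) : ↥K →* ↥K where
  toFun k := ⟨a * k.1 * a⁻¹, (Subgroup.mem_normalizer_iff.1 ha k.1).1 k.2⟩
  map_one' := by
    apply Subtype.ext
    simp
  map_mul' x y := by
    apply Subtype.ext
    simp [mul_assoc]

theorem conjK_val {G : Type u} [Group G] (K : Subgroup G) (a : G)
    (ha : a ∈ Subgroup.normalizer (K : Set G)) (k : K) :
    ((conjK K a ha k : K) : G) = a * k.1 * a⁻¹ := rfl

/-- [AB] -/
theorem pkgAb : PkgAb.{u} := by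
  intro G _ _ K A hAK hcop hKA
  classical
  have : Fintype A := Fintype.ofFinite A
  -- the norm map
  let τ : ↥K →* Abelianization ↥K :=
    ∏ a : A, (Abelianization.of).comp (conjK K a.1 (hAK a.2))
  have hτ : ∀ k : K, τ k = ∏ a : A, Abelianization.of (conjK K a.1 (hAK a.2) k) := by
    intro k
    simp only [τ, MonoidHom.finsetProd_apply, MonoidHom.comp_apply]
  -- invariance
  have hinv : ∀ (a₀ : A) (k : K), τ (conjK K a₀.1 (hAK a₀.2) k) = τ k := by
    intro a₀ k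
    rw [hτ, hτ]
    refine Fintype.prod_equiv (Equiv.mulRight a₀) _ _ (fun a => ?_)
    congr 1
    apply Subtype.ext
    simp only [conjK_val, Equiv.coe_mulRight, Subgroup.coe_mul, mul_inv_rev]
    group
  -- `τ` kills the commutators
  have hcomm : ∀ k ∈ K, ∀ a ∈ A, ∃ h : ⁅k, a⁆ ∈ K, τ ⟨⁅k, a⁆, h⟩ = 1 := by
    intro k hk a ha
    have hmem : ⁅k, a⁆ ∈ K := by
      rw [← hKA]
      exact Subgroup.commutator_mem_commutator hk ha
    refine ⟨hmem, ?_⟩
    have e : (⟨⁅k, a⁆, hmem⟩ : K) = ⟨k, hk⟩ * (conjK K a (hAK ha) ⟨k, hk⟩)⁻¹ := by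
      apply Subtype.ext
      simp only [Subgroup.coe_mul, Subgroup.coe_inv, conjK_val, commutatorElement_def]
      group
    rw [e, map_mul, map_inv, hinv ⟨a, ha⟩ ⟨k, hk⟩, mul_inv_cancel]
  have hall' : ∀ g ∈ ⁅K, A⁆, ∃ h : g ∈ K, τ ⟨g, h⟩ = 1 := by
    intro g hg'
    rw [Subgroup.commutator_def] at hg'
    induction hg' using Subgroup.closure_induction with
    | mem x hx =>
      obtain ⟨k, hk, a, ha, rfl⟩ := hx
      exact hcomm k hk a ha
    | one => exact ⟨K.one_mem, map_one τ⟩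
    | mul x y _ _ ihx ihy =>
      obtain ⟨hx, hx1⟩ := ihx
      obtain ⟨hy, hy1⟩ := ihy
      refine ⟨K.mul_mem hx hy, ?_⟩
      have e : (⟨x * y, K.mul_mem hx hy⟩ : K) = ⟨x, hx⟩ * ⟨y, hy⟩ := rfl
      rw [e, map_mul, hx1, hy1, mul_one]
    | inv x _ ihx =>
      obtain ⟨hx, hx1⟩ := ihx
      refine ⟨K.inv_mem hx, ?_⟩
      have e : (⟨x⁻¹, K.inv_mem hx⟩ : K) = (⟨x, hx⟩ : K)⁻¹ := rfl
      rw [e, map_inv, hx1, inv_one]
  have hall : ∀ g ∈ K, ∃ h : g ∈ K, τ ⟨g, h⟩ = 1 := by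
    intro g hg
    exact hall' g (by rw [hKA]; exact hg)
  -- the fixed points
  intro c hc
  obtain ⟨hcK, hcA⟩ := hc
  have hcA' : ∀ a ∈ A, a * c = c * a := fun a ha => Subgroup.mem_centralizer_iff.1 hcA a ha
  obtain ⟨_, hτc⟩ := hall c hcK
  have hfix : ∀ a : A, conjK K a.1 (hAK a.2) ⟨c, hcK⟩ = ⟨c, hcK⟩ := by
    intro a
    apply Subtype.ext
    rw [conjK_val]
    show a.1 * c * a.1⁻¹ = c
    rw [hcA' a.1 a.2, mul_inv_cancel_right]
  have h1 : (Abelianization.of (⟨c, hcK⟩ : K)) ^ Nat.card A = 1 := by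
    rw [← hτc, hτ]
    simp only [hfix, Finset.prod_const, Finset.card_univ, Nat.card_eq_fintype_card]
  have h2 : (Abelianization.of (⟨c, hcK⟩ : K)) ^ Nat.card K = 1 := by
    rw [← map_pow, pow_card_eq_one', map_one]
  have h3 : orderOf (Abelianization.of (⟨c, hcK⟩ : K)) ∣ Nat.gcd (Nat.card A) (Nat.card K) :=
    Nat.dvd_gcd (orderOf_dvd_of_pow_eq_one h1) (orderOf_dvd_of_pow_eq_one h2)
  rw [Nat.Coprime.gcd_eq_one hcop] at h3
  have h4 : Abelianization.of (⟨c, hcK⟩ : K) = 1 := orderOf_eq_one_iff.1 (Nat.dvd_one.1 h3)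
  have h5 : (⟨c, hcK⟩ : K) ∈ commutator ↥K := by
    rw [← Abelianization.ker_of]
    exact h4
  rw [← Subgroup.map_subtype_commutator]
  exact Subgroup.mem_map.2 ⟨⟨c, hcK⟩, h5, rfl⟩

end Cfsg.Agent.Lib.Helper93.TIQ
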