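import Mathlib
import Cfsg.Agent.Lib.Helper4.TIQ.Defs

/-!
# TIQ (S4151): package [SUPINF]
-/

set_option autoImplicit false

namespace Cfsg.Agent.Lib.Helper93.TIQ

open Cfsg.Agent.Lib.Helper4.TIQ

universe u

/-- [SUPINF] -/
theorem pkgSupInf : PkgSupInf.{u} := by
  intro G _ _ O L hO
  have h1 : Nat.card O * O.relIndex (O ⊔ L) = Nat.card (O ⊔ L : Subgroup G) := by
    have := Subgroup.relIndex_mul_relIndex ⊥ O (O ⊔ L) bot_le le_sup_left
    rwa [Subgroup.relIndex_bot_left, Subgroup.relIndex_bot_left] at this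
  have h2 : Nat.card (O ⊓ L : Subgroup G) * (O ⊓ L).relIndex L = Nat.card L := by
    have := Subgroup.relIndex_mul_relIndex ⊥ (O ⊓ L) L bot_le inf_le_right
    rwa [Subgroup.relIndex_bot_left, Subgroup.relIndex_bot_left] at this
  rw [Subgroup.relIndex_sup_left] at h1
  rw [Subgroup.inf_relIndex_right] at h2
  rw [← h1, ← h2]
  ring

end Cfsg.Agent.Lib.Helper93.TIQ
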